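import Groth.Agent.Lib.QuotQP8.Norm
import Groth.Agent.Lib.SGA1Quot21.ExistsGlue
import Groth.Agent.Lib.InvExt.FiniteFibre
import Groth.Agent.Lib.RelTwistPow8.Basic
import Groth.Agent.Lib.ProjQ8.Bundle
import Groth.Agent.Lib.ProjAlg.Proper
import Groth.Prelude.Def_RelProj

/-!
# Quotients of quasi-projective schemes by finite groups are quasi-projective
-/

set_option autoImplicit false
set_option linter.all false
set_option backward.isDefEq.respectTransparency false
set_option maxHeartbeats 1000000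

universe u

open AlgebraicGeometry CategoryTheory CategoryTheory.Limits TopologicalSpace Opposite
open GrothLib.Ample GrothLib.InvExt
open GrothLib.SGA1Quot21 (rho_one rho_mul)

noncomputable section

namespace GrothLib.QuotQP8

variable {X S : Scheme.{u}} {G : Type u} [Group G] [Finite G] (ρ : G →* Aut X)

/-- There is no specialization inside an orbit. -/
theorem eq_of_specializes_orbit (x : X) (g : G) (h : x ⤳ (ρ g).hom x) : x = (ρ g).hom x := by
  haveI := Fintype.ofFinite G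
  have hpow : ∀ n, (ρ g).hom x ⤳ (ρ (g ^ (n + 1))).hom x := by
    intro n
    induction n with
    | zero => rw [zero_add, pow_one]
    | succ n ih =>
      refine ih.trans ?_
      have e : (ρ (g ^ (n + 1 + 1))).hom x = (ρ (g ^ (n + 1))).hom ((ρ g).hom x) := by
        rw [pow_succ _ (n + 1), rho_mul, Scheme.Hom.comp_apply]
      rw [e]
      exact h.map (ρ (g ^ (n + 1))).hom.continuous
  obtain ⟨n, hn, hgn⟩ : ∃ n, 0 < n ∧ g ^ n = 1 := ⟨Fintype.card G, Fintype.card_pos, pow_card_eq_one⟩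
  obtain ⟨m, rfl⟩ : ∃ m, n = m + 1 := ⟨n - 1, by omega⟩
  have h2 := hpow m
  rw [hgn, rho_one] at h2
  exact (h.antisymm h2).eq

variable {f : X ⟶ S} (hρ : ∀ g : G, (ρ g).hom ≫ f = f) {L : X.Modules} (hL : RelAmple.IsRelAmple f L)

include hρ hL in
/-- Orbits lie in affine opens. -/
theorem exists_affine_orbit (x : X) : ∃ U : X.Opens, IsAffineOpen U ∧ ∀ g : G, (ρ g).hom x ∈ U := by
  obtain ⟨V, hV, hxV, -⟩ := exists_isAffineOpen_mem_and_subset (Opens.mem_top (f x))
  let U := f ⁻¹ᵁ V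
  have h := hL.2 ⟨V, hV⟩
  obtain ⟨c, ⟨e⟩⟩ := exists_cocycle h.1
  obtain ⟨hc, hamp⟩ := (c.isAmple_iff e).1 h
  haveI := hc
  let orb : Set U.toScheme := (U.ι : U.toScheme → X) ⁻¹' Set.range fun g : G => (ρ g).hom x
  obtain ⟨n, a, hZ, -, haff⟩ := c.exists_affine_locus_finite hamp
    (Z := orb) ((Set.finite_range _).preimage U.ι.isOpenEmbedding.injective.injOn) (U := ⊤) (fun _ _ => trivial)
  refine ⟨U.ι ''ᵁ c.locus a, haff.image_of_isOpenImmersion U.ι, fun g => ?_⟩
  have hg : (ρ g).hom x ∈ U := by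
    show f ((ρ g).hom x) ∈ V
    rw [← Scheme.Hom.comp_apply, hρ]
    exact hxV
  exact ⟨⟨_, hg⟩, hZ (show (⟨_, hg⟩ : U.toScheme) ∈ orb from ⟨g, rfl⟩), rfl⟩

include hρ hL in
/-- The quotient of a relatively ample situation, with a relatively ample module. -/
theorem exists_quot_isRelAmple [IsNoetherian S] [LocallyOfFiniteType f] [QuasiCompact f] :
    ∃ (Y : Scheme.{u}) (q : X ⟶ Y) (h : Y ⟶ S), q ≫ h = f ∧ SGA1.IsQuot ρ q ∧ LocallyOfFiniteType h ∧
      QuasiCompact h ∧ ∃ N : Y.Modules, RelAmple.IsRelAmple h N := by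
  obtain ⟨Y, q, hq⟩ := SGA1Quot21.exists_quot (ρ := ρ) (exists_affine_orbit ρ hρ hL)
  obtain ⟨h, hh, -⟩ := SGA1Quot21.existsUnique_desc hq f hρ
  subst hh
  haveI : LocallyOfFiniteType (q ≫ h) := ‹_›
  haveI := SGA1Quot21.isFinite_of_locallyOfFiniteType hq h
  haveI := SGA1Quot21.quasiCompact_of_comp hq h
  haveI : LocallyOfFiniteType h := SGA1Quot21.locallyOfFiniteType_of_comp_quot hq h
  haveI : CompactSpace Y := QuasiCompact.compactSpace_of_compactSpace h
  haveI := Fintype.ofFinite G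
  refine ⟨Y, q, h, rfl, hq, inferInstance, inferInstance,
    exists_isRelAmple_of_norm (normOfQuot hq) h hL fun y => ?_⟩
  obtain ⟨x, rfl⟩ := SGA1Quot21.surjective hq y
  obtain ⟨U, hU, hxU⟩ := exists_affine_orbit ρ hρ hL x
  have hfib : q ⁻¹' {q x} ⊆ Set.range fun g : G => (ρ g).hom x := fun z hz =>
    (SGA1Quot21.apply_eq_iff hq x z).1 (Set.mem_singleton_iff.1 hz).symm
  obtain ⟨W, s, hW, hs⟩ := InvExt.exists_gen_nhd_of_finite (Ample.isInvertible_of_isRelAmple hL) hU
    (Set.range fun g : G => (ρ g).hom x) (Set.finite_range _) (by rintro _ ⟨g, rfl⟩; exact hxU g) (by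
      rintro _ ⟨a, rfl⟩ _ ⟨b, rfl⟩ hab
      have e : (ρ b).hom x = (ρ (b * a⁻¹)).hom ((ρ a).hom x) := by
        rw [← Scheme.Hom.comp_apply, ← rho_mul, inv_mul_cancel_right]
      show (ρ a).hom x = (ρ b).hom x
      rw [e]
      exact eq_of_specializes_orbit ρ _ _ (e ▸ hab))
  exact ⟨W, s, hfib.trans hW, hs⟩

include hρ in
/-- Projective morphisms: the quotient is projective. -/
theorem exists_quot_isProjective [IsNoetherian S] (hf : RelProj.IsProjective f) :
    ∃ (Y : Scheme.{u}) (q : X ⟶ Y) (h : Y ⟶ S), q ≫ h = f ∧ SGA1.IsQuot ρ q ∧ RelProj.IsProjective h := by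
  haveI := ProjAlg.isProper_of_isProjective hf
  obtain ⟨𝒮, P, p, chart, e, hgen, hft, hP, rfl⟩ := hf
  obtain ⟨O1, lam, hO1⟩ := RelProjK.exists_isRelTwist (chart := chart) hP (1 : ℤ)
  have hL := NormAmple.isRelAmple_pullback (g := e.hom) p (RelTwistPow8.isRelAmple_one hP hgen hft hO1)
  obtain ⟨Y, q, h, hqh, hq, hlft, hqc, N, hN⟩ := exists_quot_isRelAmple ρ hρ hL
  refine ⟨Y, q, h, hqh, hq, ?_⟩
  haveI := hlft
  haveI := hqc
  haveI : IsProper (q ≫ h) := hqh ▸ ‹IsProper (e.hom ≫ p)›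
  haveI := SGA1Quot21.isSeparated_of_comp hq h
  haveI : Surjective q := ⟨SGA1Quot21.surjective hq⟩
  haveI : UniversallyClosed h := UniversallyClosed.of_comp_surjective q h
  haveI : IsProper h := {}
  exact VA.isProjective_of_isQuasiProjective h ⟨hlft, hqc, N, hN⟩

end GrothLib.QuotQP8
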