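import Groth.Agent.Lib.SGA1Quot21.Points
import Groth.Agent.Lib.NormAmple.Pushdown

/-!
# The norm of a quotient by a finite group, and norms of relatively ample modules
-/

set_option autoImplicit false
set_option linter.all false
set_option backward.isDefEq.respectTransparency false
set_option maxHeartbeats 1000000

universe u

open AlgebraicGeometry CategoryTheory CategoryTheory.Limits TopologicalSpace Opposite
open GrothLib.Ample GrothLib.InvExt
open GrothLib.SGA1Quot21 (act act_mul act_one app_act map_act rho_one rho_mul)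

noncomputable section

namespace GrothLib.QuotQP8

section norm

variable {X Y : Scheme.{u}} {G : Type u} [Group G] [Fintype G] {ρ : G →* Aut X} {p : X ⟶ Y}
  (hp : SGA1.IsQuot ρ p)

include hp in
theorem exists_prod_act (U : Y.Opens) (s : Γ(X, p ⁻¹ᵁ U)) :
    ∃ b : Γ(Y, U), (p.app U).hom b = ∏ g : G, (act ρ p hp.inv U g).hom s := by
  refine (hp.range_iff U _).2 fun k => ?_
  show (act ρ p hp.inv U k).hom _ = _
  rw [map_prod]
  refine Eq.trans (Finset.prod_congr rfl fun g _ => ?_)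
    (Equiv.prod_comp (Equiv.mulRight k) fun g => (act ρ p hp.inv U g).hom s)
  rw [← CommRingCat.comp_apply, ← act_mul]
  rfl

/-- The product of the translates, as a function on the quotient. -/
def qnorm (U : Y.Opens) (s : Γ(X, p ⁻¹ᵁ U)) : Γ(Y, U) := (exists_prod_act hp U s).choose

theorem app_qnorm (U : Y.Opens) (s : Γ(X, p ⁻¹ᵁ U)) :
    (p.app U).hom (qnorm hp U s) = ∏ g : G, (act ρ p hp.inv U g).hom s :=
  (exists_prod_act hp U s).choose_spec

/-- The norm of a quotient by a finite group. -/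
def normOfQuot : Nrm.NormOfDegree p (Fintype.card G) where
  one_le := Fintype.card_pos
  norm U :=
    { toFun := qnorm hp U
      map_one' := hp.injective U (by
        rw [app_qnorm, map_one]
        exact Finset.prod_eq_one fun g _ => map_one (act ρ p hp.inv U g).hom)
      map_mul' := fun a b => hp.injective U (by
        rw [map_mul, app_qnorm, app_qnorm, app_qnorm, ← Finset.prod_mul_distrib]
        exact Finset.prod_congr rfl fun g _ => map_mul (act ρ p hp.inv U g).hom a b) }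
  norm_res {U V} i s := by
    show Y.presheaf.map i.op (qnorm hp U s) = qnorm hp V _
    refine hp.injective V ?_
    rw [app_qnorm, ← CommRingCat.comp_apply (Y.presheaf.map i.op), Scheme.Hom.naturality,
      CommRingCat.comp_apply, app_qnorm, map_prod]
    refine Finset.prod_congr rfl fun g _ => ?_
    exact (ConcreteCategory.congr_hom (map_act ρ p hp.inv i.le g) s)
  norm_app U b := hp.injective U (by
    show (p.app U).hom (qnorm hp U _) = _
    rw [app_qnorm, map_pow]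
    refine Eq.trans (Finset.prod_congr rfl fun g _ => ?_) (by rw [Finset.prod_const, Finset.card_univ])
    rw [← CommRingCat.comp_apply, app_act])
  norm_mem U s x hx hs := by
    show Y.presheaf.germ U (p.base x) hx (qnorm hp U s) ∈ _
    rw [IsLocalRing.mem_maximalIdeal, mem_nonunits_iff]
    intro hu
    have h1 := hu.map (p.stalkMap x).hom
    rw [← CommRingCat.comp_apply, Scheme.Hom.germ_stalkMap, CommRingCat.comp_apply, app_qnorm, map_prod] at h1
    have h2 := IsUnit.prod_iff.1 h1 1 (Finset.mem_univ _)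
    rw [act_one] at h2
    exact (IsLocalRing.mem_maximalIdeal _).1 hs h2

end norm

variable {X Y S : Scheme.{u}} {π : X ⟶ Y} {d : ℕ}

/-- The norm of a cocycle is ample over an open when the cocycle is ample over its preimage. -/
theorem isAmp_comap_normCocycle [IsFinite π] (ν : Nrm.NormOfDegree π d) {ι : Type u}
    (V : ι → Y.Opens) (hV : ⨆ i, V i = ⊤) (γ : ∀ i j, Γ(X, π ⁻¹ᵁ V i ⊓ π ⁻¹ᵁ V j)) (hs) (hc) (hcov)
    (U : Y.Opens) [CompactSpace (U : Scheme.{u})]
    (h : (({ ι := ι, D := fun i => π ⁻¹ᵁ V i, g := γ, cover := hcov, self := hs, change := hc } : Cocycle X).comap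
      (π ⁻¹ᵁ U).ι).IsAmp) :
    ((NormAmple.normCocycle ν V hV γ hs hc).comap U.ι).IsAmp := by
  let cX : Cocycle X := { ι := ι, D := fun i => π ⁻¹ᵁ V i, g := γ, cover := hcov, self := hs, change := hc }
  let cY := NormAmple.normCocycle ν V hV γ hs hc
  let UX : X.Opens := π ⁻¹ᵁ U
  haveI : CompactSpace (UX : Scheme.{u}) :=
    isCompact_iff_compactSpace.mp (π.isCompact_preimage (isCompact_iff_compactSpace.mpr ‹_›))
  intro z
  obtain ⟨i₀, W, hzW, -, hW⟩ := (cY.comap U.ι).exists_affine_le_D z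
  have hfin : ((UX.ι : UX.toScheme → X) ⁻¹' (π ⁻¹' {U.ι z})).Finite :=
    (π.finite_preimage_singleton _).preimage UX.ι.isOpenEmbedding.injective.injOn
  obtain ⟨n, a', hZ, haW, -⟩ := (cX.comap UX.ι).exists_affine_locus_finite h hfin
    (U := UX.ι ⁻¹ᵁ (π ⁻¹ᵁ (U.ι ''ᵁ W)))
    (fun w hw => ⟨z, hzW, (Set.mem_singleton_iff.1 hw).symm⟩)
  obtain ⟨a, ha⟩ := (cX.bijective_pullSect (n := n + 1) UX.ι ⊤).2 a'
  have heq : UX.ι ''ᵁ ⊤ = UX := Scheme.Opens.ι_image_top UX
  have hle : ∀ i, π ⁻¹ᵁ (U ⊓ V i) ≤ UX.ι ''ᵁ ⊤ ⊓ π ⁻¹ᵁ V i := fun i =>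
    le_inf ((π.preimage_mono inf_le_left).trans heq.ge) (π.preimage_mono inf_le_right)
  let b : cY.sect (n + 1) U := ⟨fun (i : ι) => ν.norm (U ⊓ V i) (res (hle i) (a.1 i)), by
    intro (i : ι) (j : ι) T (hi : T ≤ U ⊓ V i) (hj : T ≤ U ⊓ V j)
    have hTi : T ≤ V i := hi.trans inf_le_right
    have hTj : T ≤ V j := hj.trans inf_le_right
    show res hi (ν.norm _ (res (hle i) (a.1 i))) = _ * res hj (ν.norm _ (res (hle j) (a.1 j)))
    rw [NormAmple.norm_res' ν hi, NormAmple.norm_res' ν hj, res_res, res_res]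
    have e := cX.sect_spec a i j (W := π ⁻¹ᵁ T) ((π.preimage_mono hi).trans (hle i))
      ((π.preimage_mono hj).trans (hle j))
    erw [e]
    rw [map_mul, map_pow]
    congr 2
    exact (NormAmple.normCocycle_G ν V hV γ hs hc i j hTi hTj).symm⟩
  have hU : (⊤ : U.toScheme.Opens) ≤ U.ι ⁻¹ᵁ U := fun w _ => w.2
  let b' : (cY.comap U.ι).sect (n + 1) ⊤ := cY.pullSect U.ι hU b
  have hA : ∀ (i : ι) (w : UX.toScheme), π (UX.ι w) ∈ V i →
      (w ∈ (cX.comap UX.ι).locus a' ↔ UX.ι w ∈ X.basicOpen (res (hle i) (a.1 i))) := by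
    intro i w hwi
    rw [← ha, (cX.comap UX.ι).mem_locus_iff _ (i := i) hwi]
    show w ∈ UX.toScheme.basicOpen ((UX.ι.appLE _ _ _).hom (a.1 i)) ↔ _
    rw [Scheme.basicOpen_appLE, Scheme.basicOpen_res]
    exact ⟨fun h => ⟨⟨w.2, hwi⟩, h.2⟩, fun h => ⟨⟨trivial, hwi⟩, h.2⟩⟩
  have hB : ∀ (i : ι) (y : U.toScheme), U.ι y ∈ V i →
      (y ∈ (cY.comap U.ι).locus b' ↔ ∀ w : UX.toScheme, π (UX.ι w) = U.ι y → w ∈ (cX.comap UX.ι).locus a') := by
    intro i y hyi
    rw [(cY.comap U.ι).mem_locus_iff b' (i := i) hyi]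
    show y ∈ U.toScheme.basicOpen ((U.ι.appLE _ _ _).hom (b.1 i)) ↔ _
    rw [Scheme.basicOpen_appLE]
    refine Iff.trans ⟨fun h => h.2, fun h => ⟨⟨trivial, hyi⟩, h⟩⟩ ?_
    refine (NormAmple.mem_basicOpen_norm ν (res (hle i) (a.1 i)) (W := U ⊓ V i) ⟨y.2, hyi⟩).trans ?_
    constructor
    · intro h w hw
      exact (hA i w (hw.symm ▸ hyi)).2 (h _ hw)
    · intro h x hx
      have hxU : x ∈ UX := show π x ∈ U by rw [hx]; exact y.2
      exact (hA i ⟨x, hxU⟩ (show π x ∈ V i from hx.symm ▸ hyi)).1 (h ⟨x, hxU⟩ hx)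
  refine ⟨n, b', ?_, (cY.comap U.ι).isAffineOpen_locus_of_le _ hW fun y hy => ?_⟩
  · obtain ⟨i, hi⟩ := (cY.comap U.ι).exists_mem z
    exact (hB i z hi).2 fun w hw => hZ hw
  · obtain ⟨i, hi⟩ := (cY.comap U.ι).exists_mem y
    obtain ⟨x, hx⟩ := (NormAmple.surjective_of_norm ν).surj (U.ι y)
    have hxU : x ∈ UX := show π x ∈ U by rw [hx]; exact y.2
    obtain ⟨y', hy', e⟩ := haW ((hB i y hi).1 hy ⟨x, hxU⟩ hx)
    have e' : U.ι y' = U.ι y := e.trans hx
    exact U.ι.isOpenEmbedding.injective e' ▸ hy'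

/-- The base of a finite morphism with a norm has a relatively ample module if the source has one. -/
theorem exists_isRelAmple_of_norm [IsFinite π] [CompactSpace Y] (ν : Nrm.NormOfDegree π d) (h : Y ⟶ S)
    [QuasiCompact h] {L : X.Modules} (hL : RelAmple.IsRelAmple (π ≫ h) L)
    (hgen : ∀ y : Y, ∃ (W : X.Opens) (e : Γ(L, W)), π ⁻¹' {y} ⊆ W ∧ InvExt.IsGen L W e) :
    ∃ N : Y.Modules, RelAmple.IsRelAmple h N := by
  classical
  choose W e hW he using hgen
  let V : Y → Y.Opens := fun y => ⟨_, (π.isClosedMap _ (W y).2.isClosed_compl).isOpen_compl⟩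
  have hyV : ∀ y, y ∈ V y := fun y ⟨z, hz, hzy⟩ => hz (hW y hzy)
  have hVW : ∀ y, π ⁻¹ᵁ V y ≤ W y := fun y z hz => by
    by_contra hz'
    exact hz ⟨z, hz', rfl⟩
  have hV : ⨆ y, V y = ⊤ := eq_top_iff.2 fun y _ => Opens.mem_iSup.2 ⟨y, hyV y⟩
  have hcov : ⨆ y, π ⁻¹ᵁ V y = ⊤ := by rw [← Scheme.Hom.preimage_iSup, hV, Scheme.Hom.preimage_top]
  obtain ⟨γ, hs, hc, ⟨i⟩⟩ := NormAmple.exists_cocycle_of_gens (M := L) (fun y => π ⁻¹ᵁ V y) hcov
    (fun y => mres L (hVW y) (e y)) (fun y => (he y).restrict (hVW y))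
  refine ⟨(NormAmple.normCocycle ν V hV γ hs hc).twist 1, ‹_›, fun T => ?_⟩
  let U := h ⁻¹ᵁ T.1
  haveI : CompactSpace (U : Scheme.{u}) :=
    isCompact_iff_compactSpace.mp (h.isCompact_preimage T.2.isCompact)
  have h1 := hL.2 T
  rw [Ample.isAmple_restrict_iff] at h1
  obtain ⟨i'⟩ := Cocycle.nonempty_pullback_iso _ (π ⁻¹ᵁ U).ι i
  have h2 := isAmp_comap_normCocycle ν V hV γ hs hc hcov U ((Cocycle.isAmple_iff _ i').1 h1).2
  obtain ⟨i''⟩ := (NormAmple.normCocycle ν V hV γ hs hc).nonempty_pullback_iso U.ι (Iso.refl _)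
  rw [Ample.isAmple_restrict_iff]
  exact (Cocycle.isAmple_iff _ i'').2 ⟨inferInstance, h2⟩

end GrothLib.QuotQP8
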